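import Cfsg.Agent.Lib.Spor.Cos.Fi24Mult.Data.ShT0
import Cfsg.Agent.Lib.Spor.Cos.Fi24Mult.Data.ShT1

/-! Table for the triple cover of Fi₂₄: the generator moving the sheets at a point, and its shift. -/

set_option autoImplicit false
set_option maxRecDepth 100000

namespace Cfsg.Agent.Spor.Cos.Fi24Mult

/-- the generator moving the sheets at a point, and its shift. -/
def shT : Tab := ⟨(.node 600 (.node 300 (.node 100 shTB0 (.node 200 shTB1 shTB2)) (.node 400 shTB3 (.node 500 shTB4 shTB5))) (.node 900 (.node 700 shTB6 (.node 800 shTB7 shTB8)) (.node 1000 shTB9 (.node 1100 shTB10 shTB11)))), 5, 8⟩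

end Cfsg.Agent.Spor.Cos.Fi24Mult
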